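import Groth.Prelude.Def_AlgSpRep
import Mathlib.CategoryTheory.Filtered.Final
import Mathlib.CategoryTheory.Limits.Types.Filtered
import Mathlib.CategoryTheory.Limits.Types.Pullbacks

/-!
# Relatively limit preserving maps of presheaves, in elementary terms
-/

universe u

open CategoryTheory CategoryTheory.Limits AlgebraicGeometry Opposite

set_option backward.isDefEq.respectTransparency.types false

namespace Groth.Agent.LimPres14

variable {S : Scheme.{u}}

theorem res_eq {F G : AlgSp.PSp S} (a : F ⟶ G) {T T' : Over S} (g : T' ⟶ T) (x : F.obj (op T)) :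
    a.app (op T') (F.map g.op x) = G.map g.op (a.app (op T) x) :=
  congrArg (fun t => t x) (a.naturality g.op)

theorem map_map {F : AlgSp.PSp S} {A B C : Over S} (g : B ⟶ A) (h : C ⟶ B) (k : C ⟶ A) (e : h ≫ g = k)
    (x : F.obj (op A)) : F.map h.op (F.map g.op x) = F.map k.op x := by
  subst e; rw [op_comp, Functor.map_comp_apply]

/-- elementary criterion -/
def Crit {F G : AlgSp.PSp S} (a : F ⟶ G) : Prop :=
  ∀ ⦃I : Type u⦄ [SmallCategory I] [IsCofiltered I] (D : I ⥤ Over S) (c : Cone D),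
    IsLimit ((Over.forget S).mapCone c) → (∀ i, IsAffine (D.obj i).left) → IsAffine c.pt.left →
      (∀ (i : I) (y : G.obj (op (D.obj i))) (x : F.obj (op c.pt)), a.app _ x = G.map (c.π.app i).op y →
        ∃ (k : I) (g : k ⟶ i) (xk : F.obj (op (D.obj k))),
          a.app _ xk = G.map (D.map g).op y ∧ F.map (c.π.app k).op xk = x) ∧
      (∀ (i : I) (x x' : F.obj (op (D.obj i))), a.app _ x = a.app _ x' →
        F.map (c.π.app i).op x = F.map (c.π.app i).op x' →
          ∃ (k : I) (g : k ⟶ i), F.map (D.map g).op x = F.map (D.map g).op x')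

theorem crit_of_isRelLimitPreserving {F G : AlgSp.PSp S} {a : F ⟶ G} (ha : AlgSp.IsRelLimitPreserving a) :
    Crit a := by
  intro I _ _ D c hc hD hT
  have key : ∀ (i : I) (y : G.obj (op (D.obj i))),
      (∀ (x : F.obj (op c.pt)), a.app _ x = G.map (c.π.app i).op y →
        ∃ (k : I) (g : k ⟶ i) (xk : F.obj (op (D.obj k))),
          a.app _ xk = G.map (D.map g).op y ∧ F.map (c.π.app k).op xk = x) ∧
      (∀ (x x' : F.obj (op (D.obj i))), a.app _ x = y → a.app _ x' = y →
        F.map (c.π.app i).op x = F.map (c.π.app i).op x' →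
          ∃ (k : I) (g : k ⟶ i), F.map (D.map g).op x = F.map (D.map g).op x') := by
    intro i y
    let D' : Over i ⥤ Over (D.obj i).left :=
      { obj := fun g => Over.mk (D.map g.hom).left
        map := fun {g g'} h => Over.homMk (D.map h.left).left (by
          change (D.map h.left).left ≫ (D.map g'.hom).left = (D.map g.hom).left
          rw [← Over.comp_left, ← D.map_comp, Over.w h])
        map_id := fun g => by ext; simp
        map_comp := fun h h' => by ext; simp }
    let c' : Cone D' :=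
      { pt := Over.mk (c.π.app i).left
        π :=
          { app := fun g => Over.homMk (c.π.app g.left).left (by
              change (c.π.app g.left).left ≫ (D.map g.hom).left = (c.π.app i).left
              rw [← Over.comp_left, c.w g.hom])
            naturality := fun g g' h => by
              ext
              change 𝟙 _ ≫ (c.π.app g'.left).left = (c.π.app g.left).left ≫ (D.map h.left).left
              rw [Category.id_comp, ← Over.comp_left, c.w h.left] } }
    have hl : IsLimit ((Over.forget (D.obj i).left).mapCone c') :=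
      (Functor.Initial.isLimitWhiskerEquiv (Over.forget i) ((Over.forget S).mapCone c)).symm hc
    obtain ⟨hcol⟩ := ha (D.obj i) y D' c' hl (fun g => hD g.left) hT
    -- objects over `S`
    let η : ∀ g : Over i, D.obj g.left ⟶ (Over.map (D.obj i).hom).obj (D'.obj g) := fun g =>
      Over.homMk (𝟙 _) (by
        change 𝟙 _ ≫ (D.map g.hom).left ≫ (D.obj i).hom = _
        rw [Category.id_comp, Over.w])
    let η' : ∀ g : Over i, (Over.map (D.obj i).hom).obj (D'.obj g) ⟶ D.obj g.left := fun g =>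
      Over.homMk (𝟙 _) (by
        change 𝟙 _ ≫ _ = (D.map g.hom).left ≫ (D.obj i).hom
        rw [Category.id_comp, Over.w])
    let ε : c.pt ⟶ (Over.map (D.obj i).hom).obj c'.pt := Over.homMk (𝟙 _) (by
      change 𝟙 _ ≫ (c.π.app i).left ≫ (D.obj i).hom = _
      rw [Category.id_comp, Over.w]; rfl)
    let ε' : (Over.map (D.obj i).hom).obj c'.pt ⟶ c.pt := Over.homMk (𝟙 _) (by
      change 𝟙 _ ≫ _ = (c.π.app i).left ≫ (D.obj i).hom
      rw [Category.id_comp, Over.w]; rfl)
    constructor
    · intro x hx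
      let xT : (AlgSp.fiberFun a (D.obj i) y).obj (op c'.pt) := ⟨F.map ε'.op x, by
        rw [res_eq, hx]; exact map_map _ _ _ (Over.OverMorphism.ext (Category.id_comp _)) y⟩
      obtain ⟨g, ⟨z, hz⟩, hzx⟩ := Types.jointly_surjective_of_isColimit hcol xT
      refine ⟨g.unop.left, g.unop.hom, F.map (η g.unop).op z, ?_, ?_⟩
      · rw [res_eq]
        exact (congrArg (fun t => G.map (η g.unop).op t) hz).trans
          (map_map _ _ _ (Over.OverMorphism.ext (Category.id_comp _)) y)
      · have h2 : F.map ((Over.map (D.obj i).hom).map (c'.π.app g.unop)).op z = F.map ε'.op x :=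
          congrArg Subtype.val hzx
        have h3 := congrArg (fun t => F.map ε.op t) h2
        rw [map_map (η g.unop) (c.π.app g.unop.left) (ε ≫ (Over.map (D.obj i).hom).map (c'.π.app g.unop))
          (Over.OverMorphism.ext ((Category.comp_id _).trans (Category.id_comp _).symm)),
          ← map_map ((Over.map (D.obj i).hom).map (c'.π.app g.unop)) ε _ rfl, h3,
          map_map ε' ε (𝟙 c.pt) (Over.OverMorphism.ext (Category.id_comp _)), op_id, F.map_id]
        try rfl
    · intro x x' hx hx' hxx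
      let i₀ : Over i := Over.mk (𝟙 i)
      have hw : η' i₀ = AlgSp.overHom (D.obj i) (D'.obj i₀) := by
        ext
        change 𝟙 _ = (D.map (𝟙 i)).left
        rw [D.map_id, Over.id_left]
      let z : (AlgSp.fiberFun a (D.obj i) y).obj (op (D'.obj i₀)) := ⟨F.map (η' i₀).op x, by
        rw [res_eq]; exact (congrArg (fun t => G.map (η' i₀).op t) hx).trans (by rw [hw])⟩
      let z' : (AlgSp.fiberFun a (D.obj i) y).obj (op (D'.obj i₀)) := ⟨F.map (η' i₀).op x', by
        rw [res_eq]; exact (congrArg (fun t => G.map (η' i₀).op t) hx').trans (by rw [hw])⟩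
      have e : (Over.map (D.obj i).hom).map (c'.π.app i₀) ≫ η' i₀ = ε' ≫ c.π.app i :=
        Over.OverMorphism.ext ((Category.comp_id _).trans (Category.id_comp _).symm)
      have hzz : ((AlgSp.fiberFun a (D.obj i) y).mapCocone c'.op).ι.app (op i₀) z =
          ((AlgSp.fiberFun a (D.obj i) y).mapCocone c'.op).ι.app (op i₀) z' := by
        apply Subtype.ext
        change F.map ((Over.map (D.obj i).hom).map (c'.π.app i₀)).op (F.map (η' i₀).op x) =
          F.map ((Over.map (D.obj i).hom).map (c'.π.app i₀)).op (F.map (η' i₀).op x')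
        rw [map_map _ _ _ e, map_map _ _ _ e, ← map_map (c.π.app i) ε' _ rfl, hxx,
          map_map (c.π.app i) ε' _ rfl]
      obtain ⟨k, g, hg⟩ := (Types.FilteredColimit.isColimit_eq_iff' hcol _ _).1 hzz
      refine ⟨k.unop.left, k.unop.hom, ?_⟩
      have hg' : F.map ((Over.map (D.obj i).hom).map (D'.map g.unop)).op (F.map (η' i₀).op x) =
          F.map ((Over.map (D.obj i).hom).map (D'.map g.unop)).op (F.map (η' i₀).op x') :=
        congrArg Subtype.val hg
      have h3 := congrArg (fun t => F.map (η k.unop).op t) hg'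
      have e2 : η k.unop ≫ (Over.map (D.obj i).hom).map (D'.map g.unop) ≫ η' i₀ = D.map k.unop.hom := by
        ext
        change 𝟙 _ ≫ (D.map g.unop.left).left ≫ 𝟙 _ = _
        rw [Category.id_comp]
        refine (Category.comp_id _).trans ?_
        have hh : g.unop.left = k.unop.hom := (Category.comp_id _).symm.trans (Over.w g.unop)
        rw [hh]
      simp only [map_map _ _ _ rfl] at h3
      rw [← e2]
      simpa [Category.assoc] using h3
  exact ⟨fun i y => (key i y).1, fun i x x' h1 h2 => (key i (a.app _ x)).2 x x' rfl h1.symm h2⟩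

theorem isRelLimitPreserving_of_crit {F G : AlgSp.PSp S} {a : F ⟶ G} (ha : Crit a) :
    AlgSp.IsRelLimitPreserving a := by
  intro T y I _ _ D c hc hD hT
  let D₀ : I ⥤ Over S := D ⋙ Over.map T.hom
  let c₀ : Cone D₀ := (Over.map T.hom).mapCone c
  obtain ⟨hs, hi⟩ := ha D₀ c₀ hc hD hT
  have key : ∀ {k l : Over T.left} (g : k ⟶ l),
      G.map ((Over.map T.hom).map g).op (G.map (AlgSp.overHom T l).op y) = G.map (AlgSp.overHom T k).op y :=
    fun g => map_map _ _ _ (AlgSp.map_comp_overHom T g) y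
  refine ⟨Types.FilteredColimit.isColimitOf' _ _ ?_ ?_⟩
  · rintro ⟨x, hx⟩
    obtain ⟨i⟩ := IsCofiltered.nonempty (C := I)
    obtain ⟨k, g, xk, hxk, hxx⟩ := hs i (G.map (AlgSp.overHom T (D.obj i)).op y) x
      (hx.trans (key (c.π.app i)).symm)
    refine ⟨op k, ⟨xk, hxk.trans (key (D.map g))⟩, ?_⟩
    exact Subtype.ext hxx.symm
  · rintro ⟨i⟩ ⟨x, hx⟩ ⟨x', hx'⟩ hxx
    obtain ⟨k, g, hg⟩ := hi i x x' (hx.trans hx'.symm) (congrArg Subtype.val hxx)
    exact ⟨op k, g.op, Subtype.ext hg⟩

theorem crit_comp {F G H : AlgSp.PSp S} {a : F ⟶ G} {b : G ⟶ H} (ha : Crit a) (hb : Crit b) : Crit (a ≫ b) := by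
  intro I _ _ D c hc hD hT
  obtain ⟨sa, ia⟩ := ha D c hc hD hT
  obtain ⟨sb, ib⟩ := hb D c hc hD hT
  refine ⟨fun i z x hx => ?_, fun i x x' h1 h2 => ?_⟩
  · obtain ⟨k, g, yk, hyk, hy⟩ := sb i z (a.app _ x) hx
    obtain ⟨l, g', xl, hxl, hxx⟩ := sa k yk x hy.symm
    refine ⟨l, g' ≫ g, xl, ?_, hxx⟩
    change b.app _ (a.app _ xl) = _
    rw [hxl, res_eq, hyk]
    exact map_map _ _ _ (D.map_comp g' g).symm z
  · obtain ⟨k, g, hg⟩ := ib i (a.app _ x) (a.app _ x') h1 (by rw [← res_eq, ← res_eq, h2])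
    rw [← res_eq, ← res_eq] at hg
    obtain ⟨l, g', hg'⟩ := ia k _ _ hg (by
      rw [map_map _ _ (c.π.app i) (c.w g), map_map _ _ (c.π.app i) (c.w g), h2])
    refine ⟨l, g' ≫ g, ?_⟩
    rwa [map_map _ _ _ (D.map_comp g' g).symm, map_map _ _ _ (D.map_comp g' g).symm] at hg'

theorem crit_of_comp {F G H : AlgSp.PSp S} {a : F ⟶ G} {b : G ⟶ H} (hab : Crit (a ≫ b)) (hb : Crit b) :
    Crit a := by
  intro I _ _ D c hc hD hT
  obtain ⟨sab, iab⟩ := hab D c hc hD hT
  obtain ⟨-, ib⟩ := hb D c hc hD hT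
  refine ⟨fun i y x hx => ?_, fun i x x' h1 h2 => iab i x x' (congrArg (fun t => b.app _ t) h1) h2⟩
  obtain ⟨k, g, xk, hxk, hxx⟩ := sab i (b.app _ y) x (by
    change b.app _ (a.app _ x) = _; rw [hx, res_eq])
  obtain ⟨l, g', hg'⟩ := ib k (a.app _ xk) (G.map (D.map g).op y) (by rw [res_eq]; exact hxk) (by
    rw [← res_eq, hxx]
    exact hx.trans (map_map _ _ _ (c.w g) y).symm)
  refine ⟨l, g' ≫ g, F.map (D.map g').op xk, ?_, ?_⟩
  · rw [res_eq, hg', map_map _ _ _ (D.map_comp g' g).symm]
  · rw [map_map _ _ (c.π.app k) (c.w g'), hxx]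

theorem crit_of_isPullback {F G H P : AlgSp.PSp S} {fst : P ⟶ F} {snd : P ⟶ H} {a : F ⟶ G} {b : H ⟶ G}
    (hP : IsPullback fst snd a b) (hb : Crit b) : Crit fst := by
  intro I _ _ D c hc hD hT
  obtain ⟨sb, ib⟩ := hb D c hc hD hT
  have hp : ∀ X, IsPullback (fst.app X) (snd.app X) (a.app X) (b.app X) := fun X =>
    hP.map ((evaluation (Over S)ᵒᵖ (Type (u + 1))).obj X)
  refine ⟨fun i x p hp' => ?_, fun i p p' h1 h2 => ?_⟩
  · obtain ⟨k, g, hk, h1, h2⟩ := sb i (a.app _ x) (snd.app _ p) (by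
      rw [← res_eq, ← hp']
      exact (congrArg (fun t => t.app _ p) hP.w).symm)
    obtain ⟨pk, e1, e2⟩ := (Types.isPullback_iff _ _ _ _).1 (hp (op (D.obj k))) |>.2.2 (F.map (D.map g).op x) hk
      (by rw [res_eq, h1])
    refine ⟨k, g, pk, e1, (Types.isPullback_iff _ _ _ _).1 (hp (op c.pt)) |>.2.1 _ _ ⟨?_, ?_⟩⟩
    · rw [res_eq, e1, map_map _ _ (c.π.app i) (c.w g), hp']
    · rw [res_eq, e2, h2]
  · obtain ⟨k, g, hg⟩ := ib i (snd.app _ p) (snd.app _ p')
      (((congrArg (fun t => t.app _ p) hP.w).symm.trans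
        (congrArg (fun t => a.app _ t) h1)).trans (congrArg (fun t => t.app _ p') hP.w))
      (by rw [← res_eq, ← res_eq, h2])
    exact ⟨k, g, (Types.isPullback_iff _ _ _ _).1 (hp (op (D.obj k))) |>.2.1 _ _
      ⟨by rw [res_eq, res_eq, h1], by rw [res_eq, res_eq, hg]⟩⟩

end Groth.Agent.LimPres14
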